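import Groth.Agent.H1GeomRk.Cons
import Groth.Agent.FibDim.RelDim
import Groth.Agent.FibDim.LocDim
import Groth.Agent.FibDim.Comp
import Groth.Agent.ConsPropLib.Loci
import Groth.Agent.ConsPropLib.PointwiseProps
import Mathlib

/-!
# The points where the fibre is equidimensional form a locally constructible set (EGA IV 9.9.3)
-/

set_option autoImplicit false
set_option linter.style.haveILetI false
set_option backward.isDefEq.respectTransparency false
set_option backward.isDefEq.respectTransparency.types false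
set_option maxHeartbeats 1000000

universe u

open CategoryTheory Limits AlgebraicGeometry Topology TopologicalSpace Groth.Agent.FibDim

namespace Groth.Agent.EquidimCons

/-- Some generization in the fibre has smaller local fibre dimension. -/
def Bad {X S : Scheme.{u}} (f : X ⟶ S) (x : X) : Prop :=
  ∃ t, t ⤳ x ∧ f t = f x ∧ FlatMor.fibreDimAt f t < FlatMor.fibreDimAt f x

theorem bad_baseChange {X S X' S' : Scheme.{u}} {f : X ⟶ S} {f' : X' ⟶ S'} {p : X' ⟶ X} {g : S' ⟶ S}
    [LocallyOfFiniteType f] [LocallyOfFiniteType f'] (h : IsPullback p f' f g) (z : X') :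
    Bad f' z ↔ Bad f (p z) := by
  have hw : ∀ w, f (p w) = g (f' w) := fun w => by
    show (p ≫ f) w = (f' ≫ g) w
    rw [h.w]
  constructor
  · rintro ⟨t, ht, he, hlt⟩
    refine ⟨p t, ht.map p.continuous, by rw [hw, hw, he], ?_⟩
    rwa [← fibreDimAt_baseChange h, ← fibreDimAt_baseChange h]
  · rintro ⟨t, ht, he, hlt⟩
    obtain ⟨e, hsq, hei⟩ := ConsPropLib.exists_fibre_pullback h (f' z)
    haveI : Flat (Spec.map (g.residueFieldMap (f' z))) := ConsPropLib.flat_point _
    haveI : Flat e := MorphismProperty.of_isPullback hsq.flip ‹_›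
    obtain ⟨b, hb⟩ : t ∈ Set.range (f.fiberι (g (f' z))) := by
      rw [Scheme.Hom.range_fiberι]; exact he.trans (hw z)
    have hz : f.fiberι (g (f' z)) (e (f'.asFiber z)) = p z := by
      rw [← Scheme.Hom.comp_apply, hei, Scheme.Hom.comp_apply, Scheme.Hom.fiberι_asFiber]
    have hsp : b ⤳ e (f'.asFiber z) := by
      rw [← (f.fiberι (g (f' z))).isEmbedding.isInducing.specializes_iff, hb, hz]
      exact ht
    obtain ⟨v, hv, hev⟩ := Flat.generalizingMap e hsp
    have hpv : p (f'.fiberι (f' z) v) = t := by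
      rw [← Scheme.Hom.comp_apply, ← hei, Scheme.Hom.comp_apply, hev, hb]
    have hvz : f'.fiberι (f' z) v ⤳ z := by
      have := hv.map (f'.fiberι (f' z)).continuous
      rwa [Scheme.Hom.fiberι_asFiber] at this
    refine ⟨_, hvz, fiber_apply_fiberι f' v, ?_⟩
    rw [fibreDimAt_baseChange h, fibreDimAt_baseChange h, hpv]
    exact hlt

theorem bad_comp_mono {X S T : Scheme.{u}} (h : X ⟶ S) (j : S ⟶ T) [Mono j] [LocallyOfFiniteType j]
    [LocallyOfFiniteType h] (x : X) : Bad (h ≫ j) x ↔ Bad h x := by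
  unfold Bad
  simp only [fibreDimAt_comp_mono, Scheme.Hom.comp_apply, j.injective.eq_iff]

theorem bad_openImmersion {U X S : Scheme.{u}} (i : U ⟶ X) [IsOpenImmersion i] (f : X ⟶ S)
    [LocallyOfFiniteType f] (u : U) : Bad (i ≫ f) u ↔ Bad f (i u) := by
  unfold Bad
  simp only [fibreDimAt_openImmersion_comp, Scheme.Hom.comp_apply]
  constructor
  · rintro ⟨t, ht, he, hlt⟩
    exact ⟨i t, ht.map i.continuous, he, hlt⟩
  · rintro ⟨t, ht, he, hlt⟩
    obtain ⟨t', rfl⟩ : t ∈ Set.range i := ht.mem_open i.isOpenEmbedding.isOpen_range ⟨u, rfl⟩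
    exact ⟨t', i.isOpenEmbedding.isEmbedding.isInducing.specializes_iff.1 ht, he, hlt⟩

theorem isConstructible_bad_noetherian {X S : Scheme.{u}} [IsNoetherian X] [IsNoetherian S] (f : X ⟶ S)
    [LocallyOfFiniteType f] : IsConstructible {x : X | Bad f x} := by
  let D : ℕ → Set X := fun e => {x | FlatMor.fibreDimAt f x ≤ e}
  have hD : ∀ e, IsConstructible (D e) := fun e =>
    (show IsRetrocompact (D e) from fun U _ _ => NoetherianSpace.isCompact _).isConstructible
      (isOpen_fibreDimAt_le f e)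
  obtain ⟨N, hN⟩ : ∃ N, (Set.univ : Set X) ⊆ D N := by
    refine (NoetherianSpace.isCompact (Set.univ : Set X)).elim_directed_cover D
      (fun e => isOpen_fibreDimAt_le f e) (fun x _ => ?_) ?_
    · obtain ⟨z, -, -, he, -⟩ := exists_fibreDimAt_eq f x
      exact Set.mem_iUnion.2 ⟨_, he.le⟩
    · exact Monotone.directed_le fun a b hab x hx => le_trans (show FlatMor.fibreDimAt f x ≤ a from hx) (by exact_mod_cast hab)
  have hC : IsConstructible (⋃ e ∈ Set.Iio N, H1GeomRk.GenGE f (D e) 0 ∩ (D e)ᶜ) :=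
    IsConstructible.biUnion (Set.finite_Iio N) fun e _ =>
      (H1GeomRk.isConstructible_genGE f (hD e) 0).inter (hD e).compl
  convert hC using 1
  ext x
  simp only [Set.mem_iUnion, Set.mem_Iio, exists_prop, Set.mem_inter_iff, Set.mem_compl_iff, Set.mem_ofPred_eq]
  constructor
  · rintro ⟨t, ht, he, hlt⟩
    obtain ⟨z, -, -, hz, -⟩ := exists_fibreDimAt_eq f t
    have hxN : FlatMor.fibreDimAt f x ≤ N := hN (Set.mem_univ x)
    have hzN : rd f z < N := by
      rw [hz] at hlt
      exact_mod_cast hlt.trans_le hxN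
    exact ⟨rd f z, hzN, ⟨t, hz.le, ht, he, Nat.zero_le _⟩, fun hx => (not_le.2 hlt) ((show FlatMor.fibreDimAt f x ≤ _ from hx).trans hz.ge)⟩
  · rintro ⟨e, -, ⟨t, htD, ht, he, -⟩, hx⟩
    exact ⟨t, ht, he, lt_of_le_of_lt (show FlatMor.fibreDimAt f t ≤ e from htD) (not_le.1 hx)⟩

theorem isLocallyConstructible_bad {X S : Scheme.{u}} (f : X ⟶ S) [LocallyOfFinitePresentation f] :
    IsLocallyConstructible {x : X | ¬ Bad f x} := by
  intro x
  obtain ⟨V, hV, hxV, -⟩ := exists_isAffineOpen_mem_and_subset (U := (⊤ : S.Opens)) (x := f x) trivial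
  obtain ⟨U, hU, hxU, hUV'⟩ := exists_isAffineOpen_mem_and_subset (U := f ⁻¹ᵁ V) (x := x) hxV
  have hUV : U ≤ f ⁻¹ᵁ V := hUV'
  refine ⟨U, U.2.mem_nhds hxU, U.2, ?_⟩
  haveI : IsAffine (U : Scheme.{u}) := hU
  haveI : IsAffine (V : Scheme.{u}) := hV
  let g := f.resLE V U hUV
  obtain ⟨S₀, X₀, _, π, u₀, _, qX, _, _, _, _, _, -, -, sq, -⟩ := ConsPropLib.exists_model_pair g g
  haveI : IsLocallyNoetherian X₀ := LocallyOfFiniteType.isLocallyNoetherian u₀
  haveI : CompactSpace X₀ := QuasiCompact.compactSpace_of_compactSpace u₀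
  haveI : IsNoetherian X₀ := {}
  haveI : QuasiCompact qX := MorphismProperty.of_isPullback (P := @QuasiCompact) sq.flip inferInstance
  have h1 := qX.isConstructible_preimage (isConstructible_bad_noetherian u₀).compl
  show IsConstructible (U.ι ⁻¹' {x : X | ¬ Bad f x} : Set (U : Scheme.{u}))
  convert h1 using 1
  ext z
  show ¬ Bad f (U.ι z) ↔ ¬ Bad u₀ (qX z)
  rw [← bad_baseChange sq z, ← bad_openImmersion U.ι f z, show U.ι ≫ f = g ≫ V.ι from (f.resLE_comp_ι hUV).symm,
    bad_comp_mono]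

theorem equidim_iff {X S : Scheme.{u}} (f : X ⟶ S) [LocallyOfFiniteType f] (x : X) :
    (∃ e : ℕ, ∀ Z ∈ irreducibleComponents (↥(f.fiber (f.base x)) : Type u), f.asFiber x ∈ Z →
      topologicalKrullDim (↥Z : Type u) = e) ↔ ¬ Bad f x := by
  have hdim : ∀ (w : ↥(f.fiber (f.base x))),
      topologicalKrullDim ↥(closure ({w} : Set ↥(f.fiber (f.base x)))) =
        ((rd f (f.fiberι (f.base x) w) : ℕ∞) : WithBot ℕ∞) := fun w => by
    rw [VarDim.topologicalKrullDim_closure_singleton (k := S.residueField (f.base x))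
      (f.fiberToSpecResidueField (f.base x)), deg_fiber]
  constructor
  · rintro ⟨e, h⟩ ⟨t, ht, he, hlt⟩
    have key : ∀ z, z ⤳ x → f z = f x → FibMax f z → ((rd f z : ℕ∞) : WithBot ℕ∞) = e := by
      intro z hz hfz hmax
      obtain ⟨w, rfl⟩ : z ∈ Set.range (f.fiberι (f.base x)) := by rw [Scheme.Hom.range_fiberι]; exact hfz
      rw [← hdim]
      refine h _ (FDescent.closure_mem_irreducibleComponents ((fibMax_fiberι_iff f w).1 hmax))
        (specializes_iff_mem_closure.1 ?_)
      rw [← fiberι_specializes_iff f, Scheme.Hom.fiberι_asFiber]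
      exact hz
    obtain ⟨z, hz, hfz, hmax, hd⟩ := exists_fibMax_generization f t
    obtain ⟨z', hz', hfz', hmax', hd'⟩ := exists_fibMax_generization f x
    rw [hd, hd', key z (hz.trans ht) (hfz.trans he) hmax, key z' hz' hfz' hmax'] at hlt
    exact lt_irrefl _ hlt
  · intro hb
    obtain ⟨z', hz', hfz', -, hd'⟩ := exists_fibMax_generization f x
    refine ⟨rd f z', fun Z hZ hxZ => ?_⟩
    obtain ⟨w, rfl, hw⟩ := FDescent.exists_maximal_of_mem_irreducibleComponents hZ
    rw [hdim]
    have hsp : f.fiberι (f.base x) w ⤳ x := by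
      have := (specializes_iff_mem_closure.2 hxZ).map (f.fiberι (f.base x)).continuous
      rwa [Scheme.Hom.fiberι_asFiber] at this
    have hm := fibreDimAt_eq_rd f ((fibMax_fiberι_iff f w).2 hw)
    have h1 : ¬ FlatMor.fibreDimAt f (f.fiberι (f.base x) w) < FlatMor.fibreDimAt f x := fun hlt =>
      hb ⟨_, hsp, fiber_apply_fiberι f w, hlt⟩
    have h2 := rd_le_fibreDimAt f hsp (fiber_apply_fiberι f w)
    rw [hd'] at h1 h2
    rw [hm] at h1
    exact le_antisymm h2 (not_lt.1 h1)

end Groth.Agent.EquidimCons
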